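import Cfsg.Prelude.Def_Classical
import Cfsg.Agent.Classical.SymplecticBlocks
import Cfsg.Agent.Forms.OfBilin
import Mathlib.FieldTheory.Finite.Extension
import Mathlib.RingTheory.Trace.Basic
import Mathlib.RingTheory.IntegralDomain

/-!
`PSp_{2k+2}(q)`, `q` odd, has an element of order `p (q^k + 1)`.
-/

set_option autoImplicit false
set_option linter.style.haveILetI false

namespace CfsgLib.OrderBC

open Module
open scoped Matrix

variable (F : Type*) [Field F] [Fintype F]

/-- A Singer element of `Sp_{2k}(q)`. -/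
theorem exists_singer_symp (h2 : (2 : F) ≠ 0) {k : ℕ} (hk : 0 < k) :
    ∃ c : Matrix.symplecticGroup (Fin k) F, orderOf c = Fintype.card F ^ k + 1 := by
  classical
  obtain ⟨p, hp⟩ := CharP.exists F
  have := Fact.mk (CharP.char_is_prime F p)
  have : NeZero (2 * k) := ⟨by omega⟩
  let L := FiniteField.Extension F p (2 * k)
  have hdim : finrank F L = 2 * k := FiniteField.finrank_extension F p (2 * k)
  haveI : FiniteDimensional F L := Module.finite_of_finrank_pos (by omega)
  haveI : Finite L := Module.finite_of_finite F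
  set τ := FiniteField.frobeniusAlgEquivOfAlgebraic F L with hτ
  set σ : Gal(L/F) := τ ^ k with hσ
  have hτo : orderOf τ = 2 * k := by rw [hτ, FiniteField.orderOf_frobeniusAlgEquivOfAlgebraic, hdim]
  have hσσ : ∀ x, σ (σ x) = x := fun x => by
    have h : σ * σ = 1 := by
      rw [hσ, ← pow_add]
      exact orderOf_dvd_iff_pow_eq_one.1 ⟨1, by omega⟩
    exact AlgEquiv.congr_fun h x
  have hσpow : ∀ x, σ x = x ^ (Fintype.card F ^ k) := fun x => by
    rw [hσ, AlgEquiv.coe_pow, hτ]
    exact congrFun (FiniteField.coe_frobeniusAlgEquivOfAlgebraic_iterate F L k) x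
  obtain ⟨δ, hδ0, hδ⟩ : ∃ δ : L, δ ≠ 0 ∧ σ δ = -δ := by
    obtain ⟨x, hx⟩ : ∃ x, σ x ≠ x := by
      by_contra hc
      push Not at hc
      have h1 : τ ^ k = 1 := AlgEquiv.ext hc
      have h3 := Nat.le_of_dvd hk (hτo ▸ orderOf_dvd_of_pow_eq_one h1)
      omega
    exact ⟨x - σ x, sub_ne_zero.2 hx.symm, by rw [map_sub, hσσ, neg_sub]⟩
  let B : LinearMap.BilinForm F L :=
    LinearMap.mk₂ F (fun x y => Algebra.trace F L (δ * (x * σ y)))
      (fun x x' y => by rw [add_mul, mul_add, map_add])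
      (fun a x y => by rw [smul_mul_assoc, mul_smul_comm, map_smul])
      (fun x y y' => by rw [map_add, mul_add, mul_add, map_add])
      (fun a x y => by rw [map_smul, mul_smul_comm, mul_smul_comm, map_smul])
  have hB : ∀ x y, B x y = Algebra.trace F L (δ * (x * σ y)) := fun x y => rfl
  have hBa : B.IsAlt := fun x => by
    have h1 : σ (δ * (x * σ x)) = -(δ * (x * σ x)) := by rw [map_mul, map_mul, hσσ, hδ]; ring
    have h3 := Algebra.trace_eq_of_algEquiv σ (δ * (x * σ x))
    rw [h1, map_neg] at h3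
    have h4 : (2 : F) * B x x = 0 := by rw [hB]; linear_combination -h3
    exact (mul_eq_zero.1 h4).resolve_left h2
  have hnd : ∀ x, (∀ y, B x y = 0) → x = 0 := fun x hx => by
    refine (mul_eq_zero.1 ((traceForm_nondegenerate F L).1 (δ * x) fun y => ?_)).resolve_left hδ0
    rw [Algebra.traceForm_apply, ← hσσ y, mul_assoc]
    exact hx (σ y)
  obtain ⟨l, j, b, h1, h2', h3, hrad⟩ := CfsgLib.Forms.exists_symplectic_basis _ L B hBa rfl
  have hj : j = 0 := by
    by_contra hj
    exact b.ne_zero (Sum.inr ⟨0, Nat.pos_of_ne_zero hj⟩) (hnd _ (hrad _))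
  subst hj
  have hl : l = k := by
    have h := finrank_eq_card_basis b
    rw [hdim] at h
    simp only [Fintype.card_sum, Fintype.card_fin] at h
    omega
  subst hl
  let e : L ≃ₗ[F] (Fin l ⊕ Fin l → F) := (b.reindex (Equiv.sumEmpty _ _)).equivFun
  have he : ∀ u v, B u v = -CfsgLib.Symp.form (e u) (e v) := by
    intro u v
    suffices h : B = -(Matrix.toBilin' (Matrix.J (Fin l) F)).compl₁₂ e.toLinearMap e.toLinearMap by
      conv_lhs => rw [h]
      simp [CfsgLib.Symp.form, Matrix.toBilin'_apply']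
    refine (b.reindex (Equiv.sumEmpty _ _)).ext fun s => (b.reindex (Equiv.sumEmpty _ _)).ext fun t => ?_
    simp only [LinearMap.neg_apply, LinearMap.compl₁₂_apply, LinearEquiv.coe_coe, e, Basis.equivFun_self,
      Matrix.toBilin'_apply', Basis.reindex_apply]
    have hskew : ∀ u v, B u v = -B v u := fun u v => (LinearMap.IsAlt.neg hBa v u).symm
    rcases s with s | s <;> rcases t with t | t <;>
      simp [Matrix.J, Matrix.fromBlocks_mulVec, dotProduct, Fintype.sum_sum_type, Matrix.mulVec, Matrix.one_apply,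
        Equiv.sumEmpty, h1, h2', h3, eq_comm]
    all_goals simp [Finsupp.single_apply, hskew (b (Sum.inl (Sum.inr _))) (b (Sum.inl (Sum.inl _))), h1, eq_comm]
  -- the norm one group
  have hcard : Nat.card L = Fintype.card F ^ (2 * l) := by
    rw [FiniteField.natCard_extension, Nat.card_eq_fintype_card]
  obtain ⟨g₀, hg₀⟩ := IsCyclic.exists_ofOrder_eq_natCard (α := Lˣ)
  set Q := Fintype.card F ^ l with hQ
  have hQ2 : 2 ≤ Q := Fintype.one_lt_card.trans_le (Nat.le_self_pow (by omega) _)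
  have hu : Nat.card Lˣ = (Q - 1) * (Q + 1) := by
    rw [Nat.card_units, hcard, mul_comm 2 l, pow_mul, ← hQ, mul_comm (Q - 1)]
    simpa using Nat.sq_sub_sq Q 1
  set ζ : Lˣ := g₀ ^ (Q - 1) with hζ
  have hζo : orderOf ζ = Q + 1 := by
    rw [hζ, orderOf_pow' g₀ (by omega), hg₀, hu, Nat.gcd_eq_right (dvd_mul_right _ _),
      Nat.mul_div_cancel_left _ (by omega)]
  have hnorm : (ζ : L) * σ ζ = 1 := by
    rw [hσpow, ← pow_succ', ← Units.val_pow_eq_pow_val, ← hζo, pow_orderOf_eq_one, Units.val_one]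
  let φ : L →* Matrix (Fin l ⊕ Fin l) (Fin l ⊕ Fin l) F :=
    (LinearMap.toMatrixAlgEquiv' (R := F) (n := Fin l ⊕ Fin l)).toMonoidHom.comp
      ((e.conjAlgEquiv F).toMonoidHom.comp (Algebra.lmul F L).toMonoidHom)
  have hφ : ∀ x v, φ x *ᵥ v = e (x * e.symm v) := fun x v => by
    show LinearMap.toMatrixAlgEquiv' _ *ᵥ v = _
    rw [← Matrix.toLinAlgEquiv'_apply, Matrix.toLinAlgEquiv'_toMatrixAlgEquiv']
    rfl
  have hmem : φ ζ ∈ Matrix.symplecticGroup (Fin l) F := CfsgLib.Symp.mem_iff_form.2 fun u v => by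
    rw [hφ, hφ]
    have h4 := he (ζ * e.symm u) (ζ * e.symm v)
    have h5 := he (e.symm u) (e.symm v)
    rw [e.apply_symm_apply, e.apply_symm_apply] at h5
    have h6 : B (ζ * e.symm u) (ζ * e.symm v) = B (e.symm u) (e.symm v) := by
      rw [hB, hB, map_mul σ, mul_mul_mul_comm, hnorm, one_mul]
    rw [h4, h5] at h6
    exact neg_injective h6
  refine ⟨⟨φ ζ, hmem⟩, ?_⟩
  rw [← hζo, ← orderOf_units, ← orderOf_injective (Matrix.symplecticGroup (Fin l) F).subtype Subtype.val_injective]
  exact orderOf_injective φ (fun x y hxy => by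
    have h := congrArg (fun A => e.symm (A *ᵥ e 1)) hxy
    simpa [hφ] using h) _

/-- An element of order `p (q^k + 1)` of the projective symplectic group. -/
theorem exists_orderOf_psp {p k : ℕ} [Fact p.Prime] [CharP F p] (hp2 : p ≠ 2) (hk : 0 < k) :
    ∃ x : Cfsg.PSp (k + 1) F, orderOf x = p * (Fintype.card F ^ k + 1) := by
  classical
  have hpp : p.Prime := Fact.out
  have h2 : (2 : F) ≠ 0 := fun h => hp2 ((Nat.prime_dvd_prime_iff_eq hpp Nat.prime_two).1
    ((CharP.cast_eq_zero_iff F p 2).1 (by exact_mod_cast h)))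
  obtain ⟨c, hc⟩ := exists_singer_symp F h2 hk
  set m := Fintype.card F ^ k + 1 with hm
  let v₀ : Fin 1 ⊕ Fin 1 → F := Sum.elim (fun _ => 1) (fun _ => 0)
  let u : Matrix.symplecticGroup (Fin 1) F := CfsgLib.Symp.tv v₀ 1
  have hupow : ∀ i : ℕ, u ^ i = CfsgLib.Symp.tv v₀ (i : F) := fun i => by
    induction i with
    | zero => rw [pow_zero, Nat.cast_zero, CfsgLib.Symp.tv_zero]
    | succ i ih => rw [pow_succ, ih, CfsgLib.Symp.tv_add, Nat.cast_succ]
  let w₀ : Fin 1 ⊕ Fin 1 → F := Sum.elim (fun _ => 0) (fun _ => 1)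
  have hf : CfsgLib.Symp.form w₀ v₀ ≠ 0 := by
    simp [CfsgLib.Symp.form, v₀, w₀, Matrix.J, dotProduct, Matrix.mulVec, Fintype.sum_sum_type]
  let ψ := (CfsgLib.Symp.congrSp (R := F) (finSumFinEquiv.trans (finCongr (Nat.add_comm 1 k)) : Fin 1 ⊕ Fin k ≃ Fin (k + 1))).toMonoidHom.comp
    (CfsgLib.Symp.blockHom (a := Fin 1) (b := Fin k) (R := F))
  have hψ : Function.Injective ψ := fun a b h => CfsgLib.Symp.blockHom_injective ((CfsgLib.Symp.congrSp _).injective h)
  refine ⟨QuotientGroup.mk (ψ (u, c)), ?_⟩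
  have key : ∀ i : ℕ, (QuotientGroup.mk (ψ (u, c)) : Cfsg.PSp (k + 1) F) ^ i = 1 ↔ p * m ∣ i := by
    intro i
    rw [← QuotientGroup.mk_pow, QuotientGroup.eq_one_iff, ← map_pow, Prod.pow_mk]
    constructor
    · intro hz
      rcases CfsgLib.Symp.mem_center_iff.1 hz with h | h
      · have h1 : ((u ^ i, c ^ i) : Matrix.symplecticGroup (Fin 1) F × Matrix.symplecticGroup (Fin k) F) = 1 :=
          hψ (by rw [map_one]; exact Subtype.ext h)
        rw [Prod.mk_eq_one] at h1
        have h3 := congrArg (fun g : Matrix.symplecticGroup (Fin 1) F => g • w₀) h1.1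
        simp only [hupow, CfsgLib.Symp.tv_smul, one_smul, add_eq_left, smul_eq_zero] at h3
        have hpi : p ∣ i := by
          refine (CharP.cast_eq_zero_iff F p i).1 ((mul_eq_zero.1 (h3.resolve_right fun h => ?_)).resolve_right hf)
          simpa [v₀] using congrFun h (Sum.inl 0)
        have hmi : m ∣ i := hc ▸ orderOf_dvd_of_pow_eq_one h1.2
        refine Nat.Coprime.mul_dvd_of_dvd_of_dvd (hpp.coprime_iff_not_dvd.2 fun h => ?_) hpi hmi
        obtain ⟨n, -, hn⟩ := FiniteField.card F p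
        refine hpp.one_lt.ne' (Nat.dvd_one.1 ((Nat.dvd_add_right (dvd_pow ?_ hk.ne')).1 h))
        rw [hn]
        exact dvd_pow_self p n.ne_zero
      · exfalso
        have h1 : ∀ y : Fin 1 ⊕ Fin 1 → F, (u ^ i) • y = -y := by
          intro y
          have h3 : CfsgLib.Symp.blockHom (R := F) (u ^ i, c ^ i) •
              CfsgLib.Symp.glue y (0 : Fin k ⊕ Fin k → F) = -CfsgLib.Symp.glue y 0 := by
            have hz' : (CfsgLib.Symp.blockHom (R := F) (u ^ i, c ^ i)).1 = -1 := by
              have h4 := congrArg (fun A => A.submatrix (Equiv.sumCongr (finSumFinEquiv.trans (finCongr (Nat.add_comm 1 k))) (finSumFinEquiv.trans (finCongr (Nat.add_comm 1 k))))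
                (Equiv.sumCongr (finSumFinEquiv.trans (finCongr (Nat.add_comm 1 k))) (finSumFinEquiv.trans (finCongr (Nat.add_comm 1 k))))) h
              simp only [ψ, MonoidHom.comp_apply, MulEquiv.coe_toMonoidHom] at h4
              change ((Matrix.reindex _ _ _).submatrix _ _) = _ at h4
              rw [Matrix.reindex_apply, Matrix.submatrix_submatrix, Equiv.symm_comp_self, Matrix.submatrix_id_id] at h4
              simpa [Matrix.submatrix_neg, Matrix.submatrix_one_equiv] using h4
            show (_ : Matrix _ _ F) *ᵥ _ = _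
            rw [hz', Matrix.neg_mulVec, Matrix.one_mulVec]
          rw [CfsgLib.Symp.blockHom_smul, CfsgLib.Symp.resA_glue, CfsgLib.Symp.resB_glue] at h3
          have h5 := congrArg CfsgLib.Symp.resA h3
          rw [CfsgLib.Symp.resA_glue] at h5
          rw [h5]
          exact congrArg Neg.neg (CfsgLib.Symp.resA_glue y 0)
        have h6 := congrFun (h1 v₀) (Sum.inl 0)
        rw [hupow, CfsgLib.Symp.tv_smul, CfsgLib.Symp.form_self] at h6
        simp [v₀] at h6
        exact h2 (by linear_combination h6)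
    · intro hd
      have h1 : u ^ i = 1 := by
        rw [hupow, (CharP.cast_eq_zero_iff F p i).2 (dvd_of_mul_right_dvd hd), CfsgLib.Symp.tv_zero]
      have h2 : c ^ i = 1 := orderOf_dvd_iff_pow_eq_one.1 (hc ▸ dvd_of_mul_left_dvd hd)
      rw [h1, h2, ← Prod.one_eq_mk, map_one]
      exact one_mem _
  exact Nat.dvd_antisymm (orderOf_dvd_of_pow_eq_one ((key _).2 dvd_rfl)) ((key _).1 (pow_orderOf_eq_one _))

end CfsgLib.OrderBC
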