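import Cfsg.Agent.Quad.Concrete
import Cfsg.Agent.Quad.Spinor
import Mathlib.GroupTheory.Perm.Cycle.Type
import Mathlib.LinearAlgebra.Matrix.BilinearForm

/-!
Permutations with regular orbits, determinants of isometries, and sphere sizes of elliptic forms.
-/

set_option autoImplicit false
set_option linter.style.haveILetI false

namespace CfsgLib.OrderBC

open CfsgLib.Quad Module QuadraticMap
open scoped Matrix

/-- A permutation whose non-trivial orbits all have length `m`. -/
theorem regular_orbits {α : Type*} [Fintype α] [DecidableEq α] {σ : Equiv.Perm α} {m : ℕ} (hm : σ ^ m = 1)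
    (h : ∀ x, σ x ≠ x → ∀ i : ℕ, (σ ^ i) x = x → m ∣ i) :
    σ.support.card = σ.cycleType.card * m ∧ (Even m → Equiv.Perm.sign σ = (-1) ^ σ.cycleType.card) := by
  have hrep : σ.cycleType = Multiset.replicate σ.cycleType.card m := by
    refine Multiset.eq_replicate_card.2 fun n hn => ?_
    rw [Equiv.Perm.cycleType_def, Multiset.mem_map] at hn
    obtain ⟨c, hc, rfl⟩ := hn
    obtain ⟨hcyc, hcσ⟩ := Equiv.Perm.mem_cycleFactorsFinset_iff.1 hc
    obtain ⟨x, hx, -⟩ := id hcyc
    have hxs : x ∈ c.support := Equiv.Perm.mem_support.2 hx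
    refine Nat.dvd_antisymm ?_ (h x (by rw [← hcσ x hxs]; exact hx) _ ?_)
    · refine (Equiv.Perm.dvd_of_mem_cycleType (σ := σ) ?_).trans (orderOf_dvd_of_pow_eq_one hm)
      rw [Equiv.Perm.cycleType_def, Multiset.mem_map]
      exact ⟨c, hc, rfl⟩
    · show (σ ^ c.support.card) x = x
      rw [Equiv.Perm.cycle_is_cycleOf hxs hc, ← Equiv.Perm.cycleOf_pow_apply_self,
        ← Equiv.Perm.cycle_is_cycleOf hxs hc, ← hcyc.orderOf, pow_orderOf_eq_one, Equiv.Perm.one_apply]
  have hsum : σ.cycleType.sum = σ.cycleType.card * m := by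
    conv_lhs => rw [hrep]
    rw [Multiset.sum_replicate, smul_eq_mul]
  refine ⟨by rw [← Equiv.Perm.sum_cycleType, hsum], fun hev => ?_⟩
  rw [Equiv.Perm.sign_of_cycleType, hsum, pow_add, (hev.mul_left _).neg_one_pow, one_mul]

variable {F : Type*} [Field F]

/-- An isometry without eigenvalue `-1` of a non-degenerate form has determinant one. -/
theorem det_eq_one_of_isometry {W : Type*} [AddCommGroup W] [Module F W] [FiniteDimensional F W]
    (B : LinearMap.BilinForm F W) (hB : B.Nondegenerate) (f : W →ₗ[F] W) (hf : ∀ x y, B (f x) (f y) = B x y)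
    (h1 : ∀ x, f x = -x → x = 0) : LinearMap.det f = 1 := by
  classical
  let b := Module.finBasis F W
  set M := LinearMap.BilinForm.toMatrix b B with hM
  set A := LinearMap.toMatrix b b f with hA
  have hMd : M.det ≠ 0 := (LinearMap.BilinForm.nondegenerate_iff_det_ne_zero b).1 hB
  have hAMA : Aᵀ * M * A = M := by
    rw [hM, hA, ← LinearMap.BilinForm.toMatrix_comp b b]
    congr 1
    exact LinearMap.ext fun x => LinearMap.ext fun y => hf x y
  have hA1 : (A + 1).det ≠ 0 := by
    rw [hA, ← LinearMap.toMatrix_one b, ← map_add, LinearMap.det_toMatrix]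
    intro h
    obtain ⟨x, hx, hx0⟩ := Submodule.exists_mem_ne_zero_of_ne_bot
      (LinearMap.bot_lt_ker_of_det_eq_zero h).ne'
    exact hx0 (h1 x (eq_neg_of_add_eq_zero_left (by simpa using hx)))
  have key : Aᵀ * M * (A + 1) = (A + 1)ᵀ * M := by
    rw [mul_add, hAMA, mul_one, Matrix.transpose_add, Matrix.transpose_one, add_mul, one_mul, add_comm]
  have hdet := congrArg Matrix.det key
  rw [Matrix.det_mul, Matrix.det_mul, Matrix.det_mul, Matrix.det_transpose, Matrix.det_transpose] at hdet
  have h2 : (A.det - 1) * (M.det * (A + 1).det) = 0 := by linear_combination hdet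
  rw [← LinearMap.det_toMatrix b, ← hA]
  exact sub_eq_zero.1 ((mul_eq_zero.1 h2).resolve_right (mul_ne_zero hMd hA1))

/-- The binary form `x² + a x y + b y²` is multiplicative. -/
def binMul (a b : F) (z w : F × F) : F × F :=
  (z.1 * w.1 - b * z.2 * w.2, z.1 * w.2 + z.2 * w.1 + a * z.2 * w.2)

variable [Finite F] {q : ℕ} (hq : Nat.card F = q)

include hq in
theorem card_binary {a b : F}
    (hab : ∀ z₁ z₂ : F, z₁ ^ 2 + a * z₁ * z₂ + b * z₂ ^ 2 = 0 → z₁ = 0 ∧ z₂ = 0) {c : F} (hc : c ≠ 0)
    (h2 : (2 : F) ≠ 0) :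
    Nat.card {z : F × F // z.1 ^ 2 + a * z.1 * z.2 + b * z.2 ^ 2 = c} = q + 1 := by
  classical
  haveI := Fintype.ofFinite F
  let f : F × F → F := fun z => z.1 ^ 2 + a * z.1 * z.2 + b * z.2 ^ 2
  have hmul : ∀ z w, f (binMul a b z w) = f z * f w := fun z w => by simp only [f, binMul]; ring
  have h0 : ∀ z, f z = 0 → z = 0 := fun z hz => Prod.ext (hab _ _ hz).1 (hab _ _ hz).2
  have hex : ∀ e : F, ∃ z, f z = e := by
    intro e
    obtain ⟨v, hv⟩ := exists_value (Q := minusQ 0 a b) (minusQ_nondeg hab 0) h2 (by simp) e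
    rw [minusQ_coe] at hv
    exact ⟨(v (.inr 0), v (.inr 1)), by simpa [Cfsg.quadFormMinus, f] using hv⟩
  let N : F → ℕ := fun e => Nat.card {z // f z = e}
  have hle : ∀ d e : F, d ≠ 0 → e ≠ 0 → N d ≤ N e := by
    intro d e hd he
    obtain ⟨z, hz⟩ := hex (e / d)
    have hz0 : f z ≠ 0 := by rw [hz]; exact div_ne_zero he hd
    refine Nat.card_le_card_of_injective
      (fun w => ⟨binMul a b z w.1, by rw [hmul, hz, w.2, div_mul_cancel₀ _ hd]⟩) fun w w' h => ?_
    have h3 : binMul a b z (w.1 - w'.1) = 0 := by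
      have h4 : binMul a b z w.1 = binMul a b z w'.1 := congrArg Subtype.val h
      simp only [binMul, Prod.ext_iff] at h4 ⊢
      simp only [Prod.fst_sub, Prod.snd_sub, Prod.fst_zero, Prod.snd_zero]
      exact ⟨by linear_combination h4.1, by linear_combination h4.2⟩
    have h5 : f z * f (w.1 - w'.1) = 0 := by rw [← hmul, h3]; simp [f]
    exact Subtype.ext (sub_eq_zero.1 (h0 _ ((mul_eq_zero.1 h5).resolve_left hz0)))
  have hN0 : N 0 = 1 := Nat.card_eq_one_iff_exists.2
    ⟨⟨0, by simp [f]⟩, fun y => Subtype.ext (h0 _ y.2)⟩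
  have hsum : Nat.card (F × F) = ∑ e : F, N e := by
    rw [Nat.card_congr (Equiv.sigmaFiberEquiv f).symm, Nat.card_sigma]
  have hconst : ∀ e : F, e ≠ 0 → N e = N c := fun e he => le_antisymm (hle e c he hc) (hle c e hc he)
  rw [← Finset.add_sum_erase _ _ (Finset.mem_univ (0 : F)), hN0,
    Finset.sum_congr rfl (fun e he => hconst e (Finset.mem_erase.1 he).1), Finset.sum_const,
    Finset.card_erase_of_mem (Finset.mem_univ _), Finset.card_univ, ← Nat.card_eq_fintype_card, Nat.card_prod,
    hq, smul_eq_mul] at hsum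
  show N c = q + 1
  have hq2 : 2 ≤ q := hq ▸ Finite.one_lt_card
  obtain ⟨r, rfl⟩ : ∃ r, q = r + 1 := ⟨q - 1, by omega⟩
  rw [Nat.add_sub_cancel] at hsum
  exact Nat.eq_of_mul_eq_mul_left (show 0 < r by omega) (by linarith)

include hq in
theorem card_sphere_step {V W : Type*} [AddCommGroup V] [Module F V] [AddCommGroup W]
    [Module F W] [Finite W] (Q : QuadraticForm F V) (Q' : QuadraticForm F W)
    (e : V ≃ₗ[F] (F × F) × W) (he : ∀ v, hypSum Q' (e v) = Q v) (c : F) :
    (Nat.card {v : V // Q v = c} : ℤ) =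
      (q - 1) * Nat.card W + q * Nat.card {w : W // Q' w = c} := by
  classical
  haveI := Fintype.ofFinite F
  haveI := Fintype.ofFinite W
  have e1 : {v : V // Q v = c} ≃ Σ w : W, {p : F × F // p.1 * p.2 + Q' w = c} :=
    { toFun := fun v => ⟨(e v.1).2, (e v.1).1, by rw [← hypSum_apply, he]; exact v.2⟩
      invFun := fun p => ⟨e.symm (p.2.1, p.1), by
        rw [← he, e.apply_symm_apply, hypSum_apply]; exact p.2.2⟩
      left_inv := fun v => Subtype.ext (by simp)
      right_inv := fun p => Sigma.subtype_ext (by simp) (by simp) }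
  have hfib : ∀ d : F, (Nat.card {p : F × F // p.1 * p.2 + d = c} : ℤ) =
      ((q : ℤ) - 1) + if d = c then (q : ℤ) else 0 := by
    intro d
    have e2 : {p : F × F // p.1 * p.2 + d = c} ≃ {_y : F // d = c} ⊕ {x : F // x ≠ 0} :=
      { toFun := fun p => if h : p.1.1 = 0 then Sum.inl ⟨p.1.2, by simpa [h] using p.2⟩
          else Sum.inr ⟨p.1.1, h⟩
        invFun := Sum.elim (fun y => ⟨(0, y.1), by simp [y.2]⟩)
          (fun x => ⟨(x.1, (c - d) / x.1), by rw [mul_div_cancel₀ _ x.2]; simp⟩)
        left_inv := fun p => by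
          by_cases h : p.1.1 = 0
          · simp only [dif_pos h, Sum.elim_inl]; exact Subtype.ext (Prod.ext h.symm rfl)
          · simp only [dif_neg h, Sum.elim_inr]
            refine Subtype.ext (Prod.ext rfl ?_)
            change (c - d) / p.1.1 = p.1.2
            rw [div_eq_iff h]; linear_combination -p.2
        right_inv := fun s => by
          rcases s with y | x
          · simp
          · simp [x.2] }
    have hx : (Nat.card {x : F // x ≠ 0} : ℤ) = (q : ℤ) - 1 := by
      have h1 : 1 ≤ q := hq ▸ Nat.card_pos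
      rw [Nat.card_eq_fintype_card, Fintype.card_subtype_compl, Fintype.card_subtype_eq,
        ← Nat.card_eq_fintype_card, hq]
      push_cast [h1]; ring
    have hy : (Nat.card {_y : F // d = c} : ℤ) = if d = c then (q : ℤ) else 0 := by
      split_ifs with h
      · rw [Nat.card_congr (Equiv.subtypeUnivEquiv fun _ => h), hq]
      · haveI : IsEmpty {_y : F // d = c} := ⟨fun y => h y.2⟩
        simp
    rw [Nat.card_congr e2, Nat.card_sum, Nat.cast_add, hy, hx, add_comm]
  rw [Nat.card_congr e1, Nat.card_sigma, Nat.cast_sum, Finset.sum_congr rfl (fun w _ => hfib (Q' w)),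
    Finset.sum_add_distrib, Finset.sum_const, Finset.card_univ, ← Finset.sum_filter, Finset.sum_const,
    Nat.card_eq_fintype_card, Nat.card_eq_fintype_card, Fintype.card_subtype]
  simp only [nsmul_eq_mul]
  ring

include hq in
/-- The spheres of an elliptic form. -/
theorem card_sphere_minus {a b : F}
    (hab : ∀ z₁ z₂ : F, z₁ ^ 2 + a * z₁ * z₂ + b * z₂ ^ 2 = 0 → z₁ = 0 ∧ z₂ = 0) {c : F} (hc : c ≠ 0)
    (h2 : (2 : F) ≠ 0) (k : ℕ) :
    Nat.card {v // minusQ k a b v = c} = q ^ k * (q ^ (k + 1) + 1) := by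
  induction k with
  | zero =>
    rw [pow_zero, one_mul, zero_add, pow_one, ← card_binary hq hab hc h2]
    refine Nat.card_congr (Equiv.subtypeEquiv
      { toFun := fun v => (v (.inr 0), v (.inr 1))
        invFun := fun p => Sum.elim (fun _ => 0) ![p.1, p.2]
        left_inv := fun v => by
          funext i
          rcases i with (i | i) | i
          · exact i.elim0
          · exact i.elim0
          · fin_cases i <;> rfl
        right_inv := fun p => rfl } fun v => ?_)
    rw [minusQ_coe]
    simp [Cfsg.quadFormMinus]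
    exact Iff.rfl
  | succ k ih =>
    zify
    rw [card_sphere_step hq (minusQ (k + 1) a b) (minusQ k a b) (minusSplit (F := F) k)
      (minusSplit_apply (F := F) k a b) c, ih, Nat.card_fun, hq, Nat.card_sum, Nat.card_sum, Nat.card_fin,
      Nat.card_fin]
    push_cast
    ring

end CfsgLib.OrderBC
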