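import Cfsg.Agent.OrderBC.Basic
import Mathlib.LinearAlgebra.Eigenspace.Zero
import Mathlib.Algebra.CharP.Lemmas

/-!
Isometries commuting with a non-trivial unipotent isometry of a three-dimensional space.
-/

set_option autoImplicit false
set_option linter.style.haveILetI false

namespace CfsgLib.OrderBC

open CfsgLib.Quad CfsgLib.Forms Module QuadraticMap

variable {F X : Type*} [Field F] [AddCommGroup X] [Module F X] [FiniteDimensional F X]

/-- A non-trivial unipotent isometry of a three-dimensional space is regular. -/
theorem sq_ne_zero_of_isometry {Q : QuadraticForm F X} (hQ : (polarBilin Q).Nondegenerate) (h2 : (2 : F) ≠ 0)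
    (hd : finrank F X = 3) {U : Module.End F X} (hU : ∀ x, Q (U x) = Q x) (hne : U ≠ 1) :
    (U - 1) * (U - 1) ≠ 0 := by
  intro hsq
  set N : Module.End F X := U - 1 with hN
  have hNN : ∀ x, N (N x) = 0 := fun x => by rw [← Module.End.mul_apply, hsq, LinearMap.zero_apply]
  have hUx : ∀ x, U x = x + N x := fun x => by simp [hN]
  have hpol : ∀ x y, polar Q (N x) y + polar Q x (N y) + polar Q (N x) (N y) = 0 := fun x y => by
    have h1 : polar Q (U x) (U y) = polar Q x y := by simp only [polar, ← map_add, hU]
    rw [hUx, hUx, polar_add_left, polar_add_right, polar_add_right] at h1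
    linear_combination h1
  have hNfix : ∀ x y, polar Q (N x) (N y) = 0 := fun x y => by
    have h1 := hpol x (N y)
    rwa [hNN, polar_zero_right, add_zero, polar_zero_right, add_zero] at h1
  have hskew : ∀ x y, polar Q x (N y) = -polar Q (N x) y := fun x y => by
    have h1 := hpol x y
    rw [hNfix, add_zero] at h1
    linear_combination h1
  have hdiag : ∀ x, polar Q (N x) x = 0 := fun x => by
    have h1 : Q (U x) = Q x := hU x
    rw [hUx, quad_add] at h1
    have h3 : (2 : F) * Q (N x) = 0 := by
      rw [← hNfix x x, polar_self, nsmul_eq_mul, Nat.cast_ofNat]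
    have h4 := (mul_eq_zero.1 h3).resolve_left h2
    rw [h4, add_zero, add_eq_left, polar_comm] at h1
    exact h1
  obtain ⟨x₀, hx₀⟩ : ∃ x, N x ≠ 0 := by
    by_contra hc
    push Not at hc
    exact hne (LinearMap.ext fun x => by rw [hUx, hc, add_zero]; rfl)
  obtain ⟨y₀, hy₀⟩ : ∃ y, polar Q (N x₀) y ≠ 0 := by
    by_contra hc
    push Not at hc
    exact hx₀ (hQ.1 _ fun y => hc y)
  have hb : polar Q (N y₀) x₀ ≠ 0 := fun h => hy₀ (by rw [polar_comm, hskew, h, neg_zero])
  have hli : LinearIndependent F ![x₀, y₀, N x₀, N y₀] := by
    rw [Fintype.linearIndependent_iff]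
    intro co hco
    simp only [Fin.sum_univ_four, Matrix.cons_val] at hco
    have hN' : co 0 • N x₀ + co 1 • N y₀ = 0 := by
      have := congrArg N hco
      simpa [hNN] using this
    have h0 : co 0 = 0 := by
      have := congrArg (fun v => polar Q v y₀) hN'
      simp only [polar_add_left, polar_smul_left, hdiag, smul_eq_mul, mul_zero, add_zero, polar_zero_left] at this
      exact (mul_eq_zero.1 this).resolve_right hy₀
    have h1 : co 1 = 0 := by
      have := congrArg (fun v => polar Q v x₀) hN'
      simp only [polar_add_left, polar_smul_left, hdiag, smul_eq_mul, mul_zero, zero_add, polar_zero_left] at this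
      exact (mul_eq_zero.1 this).resolve_right hb
    simp only [h0, h1, zero_smul, zero_add] at hco
    have h2' : co 2 = 0 := by
      have := congrArg (fun v => polar Q v y₀) hco
      simp only [polar_add_left, polar_smul_left, hdiag, smul_eq_mul, mul_zero, add_zero, polar_zero_left] at this
      exact (mul_eq_zero.1 this).resolve_right hy₀
    have h3 : co 3 = 0 := by
      have := congrArg (fun v => polar Q v x₀) hco
      simp only [polar_add_left, polar_smul_left, hdiag, smul_eq_mul, mul_zero, zero_add, polar_zero_left] at this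
      exact (mul_eq_zero.1 this).resolve_right hb
    intro i
    fin_cases i <;> assumption
  have := hli.fintype_card_le_finrank
  rw [hd, Fintype.card_fin] at this
  omega

/-- A map of order prime to `p` commuting with a regular unipotent map is a scalar. -/
theorem exists_smul_of_commute {p m : ℕ} [Fact p.Prime] [CharP F p] (hp : p ≠ 2) (hd : finrank F X = 3)
    {U S : Module.End F X} (hU : U ^ p = 1) (hreg : (U - 1) * (U - 1) ≠ 0) (hS : Commute S U) (hSm : S ^ m = 1)
    (hmp : m.Coprime p) : ∃ c : F, ∀ x, S x = c • x := by
  haveI : Nontrivial X := Module.nontrivial_of_finrank_eq_succ hd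
  haveI : CharP (Module.End F X) p :=
    charP_of_injective_algebraMap (algebraMap F (Module.End F X)).injective p
  set N : Module.End F X := U - 1 with hN
  have hnil : IsNilpotent N := ⟨p, by rw [hN, sub_pow_char_of_commute p (Commute.one_right U), hU, one_pow, sub_self]⟩
  have hN3 : N ^ 3 = 0 := by
    have h := LinearMap.aeval_self_charpoly N
    rwa [IsNilpotent.charpoly_eq_X_pow_finrank hnil, hd, map_pow, Polynomial.aeval_X] at h
  obtain ⟨v, hv⟩ : ∃ v, N (N v) ≠ 0 := by
    by_contra hc
    push Not at hc
    exact hreg (LinearMap.ext fun v => hc v)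
  have hN3' : ∀ x, N (N (N x)) = 0 := fun x => by
    have := LinearMap.congr_fun hN3 x
    rwa [pow_succ', pow_two, Module.End.mul_apply, Module.End.mul_apply, LinearMap.zero_apply] at this
  have hli : LinearIndependent F ![v, N v, N (N v)] := by
    rw [Fintype.linearIndependent_iff]
    intro co hco
    simp only [Fin.sum_univ_three, Matrix.cons_val] at hco
    have e1 := congrArg (fun x => N (N x)) hco
    simp [hN3', map_add, map_smul, hv] at e1
    have e2 := congrArg N hco
    simp [hN3', map_add, map_smul, hv, e1] at e2
    simp [e1, e2, hv] at hco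
    intro i
    fin_cases i <;> assumption
  let b := basisOfLinearIndependentOfCardEqFinrank hli (by rw [hd, Fintype.card_fin])
  have hb : ∀ i, b i = ![v, N v, N (N v)] i := fun i => by
    rw [coe_basisOfLinearIndependentOfCardEqFinrank]
  obtain ⟨α, β, γ, hsv⟩ : ∃ α β γ : F, S v = α • v + β • N v + γ • N (N v) :=
    ⟨b.repr (S v) 0, b.repr (S v) 1, b.repr (S v) 2, by
      conv_lhs => rw [← b.sum_repr (S v)]
      simp [Fin.sum_univ_three, hb]⟩
  have hSN : Commute S N := hS.sub_right (Commute.one_right S)
  have hSN' : ∀ x, S (N x) = N (S x) := fun x => LinearMap.congr_fun hSN.eq x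
  have hrest : S = algebraMap F (Module.End F X) α + N * (β • 1 + γ • N) := by
    refine b.ext fun i => ?_
    simp only [hb, LinearMap.add_apply, Module.algebraMap_end_apply, Module.End.mul_apply, LinearMap.smul_apply,
      Module.End.one_apply, map_add, map_smul]
    fin_cases i <;> simp [hsv, hSN', hN3', map_add, map_smul, add_assoc]
  have hcomm : Commute N (β • 1 + γ • N) :=
    ((Commute.one_right N).smul_right β).add_right ((Commute.refl N).smul_right γ)
  have hSp : S ^ p = algebraMap F (Module.End F X) (α ^ p) := by
    rw [hrest, add_pow_char_of_commute p (Algebra.commutes α _), ← map_pow, hcomm.mul_pow,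
      pow_eq_zero_of_le (by have := (Fact.out : p.Prime).two_le; omega) hN3, zero_mul, add_zero]
  obtain ⟨e, he⟩ := exists_pow_eq_self_of_coprime
    (x := S) (n := p) (hmp.symm.coprime_dvd_right (orderOf_dvd_of_pow_eq_one hSm))
  refine ⟨(α ^ p) ^ e, fun x => ?_⟩
  conv_lhs => rw [← he, hSp, ← map_pow]
  rw [Module.algebraMap_end_apply]

end CfsgLib.OrderBC
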