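import Cfsg.Agent.OrderBC.Sphere
import Cfsg.Agent.OrderBC.Unipotent
import Cfsg.Agent.Elusive.Semisimple
import Cfsg.Agent.Quad.Orders
import Cfsg.Agent.QuadStd.Split
import Cfsg.Agent.S2904

/-!
`Ω_{2k+3}(q)`, `q` odd, has no element of order `p (q^k + 1)`.
-/

set_option autoImplicit false
set_option linter.style.haveILetI false

namespace CfsgLib.OrderBC

open CfsgLib.Quad CfsgLib.Forms CfsgLib.Elusive Module QuadraticMap

variable {F V : Type*} [Field F] [AddCommGroup V] [Module F V]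

theorem end_pow {Q : QuadraticForm F V} (g : oGroup Q) (i : ℕ) :
    (g.1.toLinearMap : Module.End F V) ^ i = (g ^ i).1.toLinearMap := by
  induction i with
  | zero => rfl
  | succ i ih => rw [pow_succ, ih, pow_succ]; rfl

variable [Fintype F] [FiniteDimensional F V] {Q : QuadraticForm F V}

/-- A primitive prime divisor of `q^(2k) - 1` does not divide the order of a split orthogonal group. -/
theorem not_dvd_card_plus {q k r : ℕ} (hq : Nat.card F = q) [Fact r.Prime] (hr2 : r ≠ 2) (hrq : ¬ r ∣ q)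
    (hk : 2 ≤ k) (hprim : ∀ j, 0 < j → j < 2 * k → ¬ r ∣ q ^ j - 1) :
    ¬ r ∣ Nat.card (oGroup (plusQ (F := F) k)) := by
  obtain ⟨l, rfl⟩ : ∃ l, k = l + 1 := ⟨k - 1, by omega⟩
  have hr : r.Prime := Fact.out
  have hq1 : ∀ j, 1 ≤ q ^ j := fun j => Nat.one_le_pow _ _ (hq ▸ Nat.card_pos)
  have hc := card_oGroup_plus (F := F) hq l
  have hc' : Nat.card (oGroup (plusQ (F := F) (l + 1))) = 2 * q ^ ((l + 1) * l) * (q ^ (l + 1) - 1) *
      ∏ i ∈ Finset.range l, (q ^ (2 * (i + 1)) - 1) := by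
    apply Nat.cast_injective (R := ℤ)
    push_cast [hq1]
    exact hc
  rw [hc']
  refine hr.prime.not_dvd_mul (hr.prime.not_dvd_mul (hr.prime.not_dvd_mul ?_ ?_) ?_) ?_
  · exact fun h => hr2 ((Nat.prime_dvd_prime_iff_eq hr Nat.prime_two).1 h)
  · exact fun h => hrq (hr.dvd_of_dvd_pow h)
  · exact hprim _ (by omega) (by omega)
  · refine hr.prime.not_dvd_finsetProd fun i hi => hprim _ (by omega) ?_
    have := Finset.mem_range.1 hi
    omega

/-- No element of the commutator subgroup has order `p (q^k + 1)`. -/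
theorem orderOf_ne (hQ : (polarBilin Q).Nondegenerate) {p k : ℕ} [Fact p.Prime] [CharP F p] (hp2 : p ≠ 2)
    (hk : 2 ≤ k) (hd : finrank F V = 2 * k + 3) (g : oGroup Q) (hg : g ∈ commutator (oGroup Q)) :
    orderOf g ≠ p * (Fintype.card F ^ k + 1) := by
  classical
  intro hord
  set q := Fintype.card F with hqdef
  set m := q ^ k + 1 with hmdef
  have hpp : p.Prime := Fact.out
  haveI : Finite V := Module.finite_of_finite F
  obtain ⟨f, hf0, hqf⟩ : ∃ f, f ≠ 0 ∧ q = p ^ f := by
    obtain ⟨n, -, hn⟩ := FiniteField.card F p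
    exact ⟨n, n.ne_zero, hn⟩
  have h2 : (2 : F) ≠ 0 := by
    intro h
    exact hp2 ((Nat.prime_dvd_prime_iff_eq hpp Nat.prime_two).1
      ((CharP.cast_eq_zero_iff F p 2).1 (by exact_mod_cast h)))
  have hqodd : Odd q := hqf ▸ ((hpp.odd_of_ne_two hp2).pow)
  have hq3 : 3 ≤ q := by
    have h1 : 1 < q := Fintype.one_lt_card
    rcases hqodd with ⟨j, hj⟩
    omega
  obtain ⟨r, hr, hrd, hprim⟩ := Cfsg.Agent.S2904.result q (2 * k) (by omega) (by omega) (by omega) (by omega)
  haveI := Fact.mk hr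
  have hr2 : r ≠ 2 := by
    rintro rfl
    refine hprim 1 one_pos (by omega) ?_
    rw [pow_one]
    exact even_iff_two_dvd.1 (Nat.Odd.sub_odd hqodd odd_one)
  have hrm : r ∣ m := by
    rw [show q ^ (2 * k) - 1 = (q ^ k + 1) * (q ^ k - 1) by rw [← Nat.sq_sub_sq, one_pow, ← pow_mul, mul_comm]] at hrd
    exact (hr.dvd_mul.1 hrd).resolve_right (hprim k (by omega) (by omega))
  have hrq : ¬ r ∣ q := fun h => hr.one_lt.ne' (Nat.dvd_one.1
    ((Nat.dvd_add_right (dvd_pow h (by omega : k ≠ 0))).1 hrm))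
  have hrp : r ≠ p := fun h => hrq (h ▸ hqf ▸ dvd_pow_self p hf0)
  have hr0 : (r : F) ≠ 0 := fun h => hrp ((Nat.prime_dvd_prime_iff_eq hpp hr).1 ((CharP.cast_eq_zero_iff F p r).1 h)).symm
  have hord' : orderOf ((q : ℕ) : ZMod r) = 2 * k := by
    refine orderOf_eq_iff (by omega) |>.2 ⟨?_, fun j hj hj0 h => hprim j hj0 hj ?_⟩
    · rw [← Nat.cast_pow, ← Nat.cast_one, ZMod.natCast_eq_natCast_iff]
      exact ((Nat.modEq_iff_dvd' (Nat.one_le_pow _ _ (by omega))).2 hrd).symm
    · rw [← Nat.cast_pow, ← Nat.cast_one, ZMod.natCast_eq_natCast_iff] at h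
      exact (Nat.modEq_iff_dvd' (Nat.one_le_pow _ _ (by omega))).1 h.symm
  have hmp : Nat.Coprime p m := by
    rw [hpp.coprime_iff_not_dvd]
    exact fun h => hpp.one_lt.ne' (Nat.dvd_one.1
      ((Nat.dvd_add_right (dvd_pow (hqf ▸ dvd_pow_self p hf0 : p ∣ q) (by omega : k ≠ 0))).1 h))
  have hm0 : 0 < m := Nat.succ_pos _
  have hgfin : 0 < p * m := Nat.mul_pos hpp.pos hm0
  set u := g ^ m with hu
  set s := g ^ p with hs
  set t := s ^ (m / r) with ht
  have hus : orderOf u = p := by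
    rw [hu, orderOf_pow' g hm0.ne', hord, Nat.gcd_eq_right (dvd_mul_left m p), Nat.mul_div_cancel _ hm0]
  have hso : orderOf s = m := by
    rw [hs, orderOf_pow' g hpp.ne_zero, hord, Nat.gcd_eq_right (dvd_mul_right p m), Nat.mul_div_cancel_left _ hpp.pos]
  have hto : orderOf t = r := by
    rw [ht, orderOf_pow' s (Nat.div_pos (Nat.le_of_dvd hm0 hrm) hr.pos).ne', hso,
      Nat.gcd_eq_right (Nat.div_dvd_of_dvd hrm), Nat.div_div_self hrm hm0.ne']
  set T : V →ₗ[F] V := t.1.toLinearMap with hT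
  have hTr : T ^ r = 1 := by rw [hT, end_pow, ← hto, pow_orderOf_eq_one]; rfl
  set W := movS T with hWdef
  set X := fixS T with hXdef
  have hcomm : ∀ h : oGroup Q, Commute h t → (∀ w ∈ W, h.1 w ∈ W) ∧ (∀ x ∈ X, h.1 x ∈ X) := by
    intro h hh
    have e : ∀ v, h.1 (T v) = T (h.1 v) := fun v => congrArg (fun a : oGroup Q => a.1 v) hh.eq
    refine ⟨?_, fun x hx => ?_⟩
    · rintro _ ⟨v, rfl⟩
      exact ⟨h.1 v, by simp [e]⟩
    · rw [hXdef, mem_fixS] at hx ⊢
      rw [← e, hx]
  have hst : Commute s t := (Commute.refl s).pow_right _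
  have hut : Commute u t := ((Commute.refl g).pow_pow m p).pow_right _
  have hus' : Commute s u := (Commute.refl g).pow_pow p m
  have hdis : W ⊓ X = ⊥ := (Submodule.eq_bot_iff _).2 fun v hv => disjoint_fix_mov hTr hr0 hv.2 hv.1
  have hWT : Inv T W := (hcomm t (Commute.refl t)).1
  have hdW : finrank F W = 2 * k := by
    have h1 := fpf_dvd hTr hWT hdis
    rw [hord'] at h1
    have h3 := fix_add_mov (f := T)
    rw [hd] at h3
    have h4 : finrank F W ≠ 0 := by
      intro h
      rw [Submodule.finrank_eq_zero, hWdef, movS, LinearMap.range_eq_bot, sub_eq_zero] at h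
      refine hr.one_lt.ne' (hto ▸ orderOf_eq_one_iff.2 (Subtype.ext (LinearEquiv.toLinearMap_injective h)))
    obtain ⟨c, hc⟩ := h1
    have h6 : finrank F W ≤ 2 * k + 3 := by
      have : finrank F (movS T) ≤ 2 * k + 3 := by omega
      exact this
    rcases c with _ | _ | c
    · omega
    · omega
    · exfalso; nlinarith
  have hdX : finrank F X = 3 := by
    have h3 := fix_add_mov (f := T)
    rw [hd, ← hWdef, ← hXdef] at h3
    omega
  have horth : ∀ w ∈ W, ∀ x ∈ X, polar Q w x = 0 := by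
    rintro _ ⟨v, rfl⟩ x hx
    rw [hXdef, mem_fixS] at hx
    show polar Q (T v - v) x = 0
    rw [sub_eq_add_neg, polar_add_left, polar_neg_left]
    conv_lhs => arg 1; rw [← hx]
    rw [hT, LinearEquiv.coe_coe, polar_oGroup, add_neg_cancel]
  have hcompl : IsCompl W X := by
    refine Submodule.isCompl_iff_disjoint W X ?_ |>.2 (disjoint_iff.2 hdis)
    omega
  have hdecomp : ∀ v, ∃ w ∈ W, ∃ x ∈ X, w + x = v := fun v =>
    Submodule.mem_sup.1 (hcompl.sup_eq_top ▸ Submodule.mem_top)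
  have hQW : (polarBilin (Q.comp W.subtype)).Nondegenerate := by
    have h : ∀ w : W, (∀ w' : W, polar Q (w : V) w' = 0) → w = 0 := fun w hw => Subtype.ext (hQ.1 _ fun v => by
      obtain ⟨a, ha, b, hb, rfl⟩ := hdecomp v
      show polar Q (w : V) (a + b) = 0
      rw [polar_add_right, hw ⟨a, ha⟩, horth _ w.2 _ hb, add_zero])
    have hp : ∀ a b : W, polar (Q.comp W.subtype) a b = polar Q (a : V) b := fun a b => rfl
    exact ⟨fun a ha => h a fun b => (hp a b).symm.trans (ha b),
      fun b hb => h b fun a => by rw [polar_comm, ← hp]; exact hb a⟩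
  have hQX : (polarBilin (Q.comp X.subtype)).Nondegenerate := by
    have h : ∀ w : X, (∀ w' : X, polar Q (w : V) w' = 0) → w = 0 := fun w hw => Subtype.ext (hQ.1 _ fun v => by
      obtain ⟨a, ha, b, hb, rfl⟩ := hdecomp v
      show polar Q (w : V) (a + b) = 0
      rw [polar_add_right, hw ⟨b, hb⟩, polar_comm, horth _ ha _ w.2, add_zero])
    have hp : ∀ a b : X, polar (Q.comp X.subtype) a b = polar Q (a : V) b := fun a b => rfl
    exact ⟨fun a ha => h a fun b => (hp a b).symm.trans (ha b),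
      fun b hb => h b fun a => by rw [polar_comm, ← hp]; exact hb a⟩
  have hTinv : ∀ (K : Submodule F V), Inv T K → K ≤ W → K ≠ ⊥ → K = W := by
    intro K hK hKW hK0
    have h1 := fpf_dvd hTr hK (eq_bot_iff.2 ((inf_le_inf_right X hKW).trans hdis.le))
    rw [hord'] at h1
    refine Submodule.eq_of_le_of_finrank_le hKW ?_
    rw [hdW]
    exact Nat.le_of_dvd (Nat.pos_of_ne_zero fun h => hK0 (Submodule.finrank_eq_zero.1 h)) h1
  have hall : ∀ h : oGroup Q, Commute h t → ∀ (a : F), (∃ w ∈ W, w ≠ 0 ∧ h.1 w = a • w) →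
      ∀ w ∈ W, h.1 w = a • w := by
    intro h hh a ⟨w₀, hw₀, hne, heq⟩
    have e : ∀ v, h.1 (T v) = T (h.1 v) := fun v => congrArg (fun a : oGroup Q => a.1 v) hh.eq
    let K := W ⊓ LinearMap.ker (h.1.toLinearMap - a • (1 : V →ₗ[F] V))
    have hmem : ∀ v, v ∈ K ↔ v ∈ W ∧ h.1 v = a • v := fun v => by
      simp [K, sub_eq_zero]
    have hK : K = W := hTinv K (fun v hv => by
      rw [hmem] at hv ⊢
      exact ⟨hWT v hv.1, by rw [e, hv.2, map_smul]⟩) inf_le_left
      fun h0 => hne ((Submodule.eq_bot_iff _).1 h0 w₀ ((hmem _).2 ⟨hw₀, heq⟩))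
    intro w hw
    exact ((hmem w).1 (hK.symm ▸ hw)).2
  haveI : CharP (Module.End F V) p := by
    haveI : Nontrivial V := Module.nontrivial_of_finrank_pos (R := F) (by omega)
    exact charP_of_injective_algebraMap (algebraMap F (Module.End F V)).injective p
  have huW : ∀ w ∈ W, u.1 w = w := by
    obtain ⟨hW', -⟩ := hcomm u hut
    have hNp : (u.1.toLinearMap - 1 : Module.End F V) ^ p = 0 := by
      rw [sub_pow_char_of_commute p (Commute.one_right _), end_pow, ← hus, pow_orderOf_eq_one, one_pow]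
      exact sub_self _
    have hNW : ∀ w ∈ W, (u.1.toLinearMap - 1 : Module.End F V) w ∈ W := fun w hw => W.sub_mem (hW' w hw) hw
    obtain ⟨w₀, hw₀, hne⟩ := Submodule.exists_mem_ne_zero_of_ne_bot
      (show W ≠ ⊥ from fun h => by rw [h, finrank_bot] at hdW; omega)
    let P : ℕ → Prop := fun i => ((u.1.toLinearMap - 1 : Module.End F V) ^ i) w₀ = 0
    have hPex : ∃ i, P i := ⟨p, by simp [P, hNp]⟩
    have hPW : ∀ i, ((u.1.toLinearMap - 1 : Module.End F V) ^ i) w₀ ∈ W := fun i => by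
      induction i with
      | zero => exact hw₀
      | succ i ih => rw [pow_succ', Module.End.mul_apply]; exact hNW _ ih
    obtain ⟨i, hi⟩ : ∃ i, Nat.find hPex = i + 1 := by
      refine ⟨Nat.find hPex - 1, ?_⟩
      have : Nat.find hPex ≠ 0 := fun h => hne (by simpa [P, h] using Nat.find_spec hPex)
      omega
    have h1 : ((u.1.toLinearMap - 1 : Module.End F V) ^ i) w₀ ≠ 0 := Nat.find_min hPex (by omega)
    have h3 : ((u.1.toLinearMap - 1 : Module.End F V) ^ (i + 1)) w₀ = 0 := hi ▸ Nat.find_spec hPex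
    rw [pow_succ', Module.End.mul_apply, LinearMap.sub_apply, sub_eq_zero] at h3
    intro w hw
    have := hall u hut 1 ⟨_, hPW i, h1, by rw [one_smul]; exact h3⟩ w hw
    rwa [one_smul] at this
  obtain ⟨hsW, hsX⟩ := hcomm s hst
  obtain ⟨-, huX⟩ := hcomm u hut
  let UX : Module.End F X := u.1.toLinearMap.restrict huX
  let SX : Module.End F X := s.1.toLinearMap.restrict hsX
  have hUpow : ∀ (i : ℕ) (x : X), ((UX ^ i) x : V) = (u ^ i).1 x := fun i => by
    induction i with
    | zero => exact fun x => rfl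
    | succ i ih => intro x; rw [pow_succ', Module.End.mul_apply, pow_map_add, ← ih]; rfl
  have hSpow : ∀ (i : ℕ) (x : X), ((SX ^ i) x : V) = (s ^ i).1 x := fun i => by
    induction i with
    | zero => exact fun x => rfl
    | succ i ih => intro x; rw [pow_succ', Module.End.mul_apply, pow_map_add, ← ih]; rfl
  have hUne : UX ≠ 1 := by
    intro h
    refine hpp.one_lt.ne' (hus ▸ orderOf_eq_one_iff.2 (Subtype.ext (LinearEquiv.ext fun v => ?_)))
    obtain ⟨a, ha, b, hb, rfl⟩ := hdecomp v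
    rw [map_add, huW a ha, show u.1 b = b from congrArg Subtype.val (LinearMap.congr_fun h ⟨b, hb⟩)]
    rfl
  have hreg := sq_ne_zero_of_isometry (Q := Q.comp X.subtype) hQX h2 hdX (U := UX) (fun x => u.2 (x : V)) hUne
  obtain ⟨c, hc⟩ := exists_smul_of_commute (S := SX) (m := m) hp2 hdX
    (LinearMap.ext fun x => Subtype.ext (by rw [hUpow, ← hus, pow_orderOf_eq_one]; rfl)) hreg
    (LinearMap.ext fun x => Subtype.ext (congrArg (fun a : oGroup Q => a.1 (x : V)) hus'.eq))
    (LinearMap.ext fun x => Subtype.ext (by rw [hSpow, ← hso, pow_orderOf_eq_one]; rfl)) hmp.symm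
  have hcX : ∀ x ∈ X, s.1 x = c • x := fun x hx => congrArg Subtype.val (hc ⟨x, hx⟩)
  have hc2 : c * c = 1 := by
    obtain ⟨y, hy⟩ := CfsgLib.Quad.exists_aniso hQX (by omega)
    rw [QuadraticMap.comp_apply, Submodule.subtype_apply] at hy
    have h1 := s.2 (y : V)
    rw [hcX _ y.2, QuadraticMap.map_smul, smul_eq_mul] at h1
    exact mul_right_cancel₀ hy (h1.trans (one_mul _).symm)
  have hdetW : LinearMap.det (s.1.toLinearMap.restrict hsW) = 1 := by
    by_cases h : ∃ w ∈ W, w ≠ 0 ∧ s.1 w = -w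
    · obtain ⟨w, hw, hne, he⟩ := h
      have h1 := hall s hst (-1) ⟨w, hw, hne, by rw [neg_one_smul, he]⟩
      have h3 : s.1.toLinearMap.restrict hsW = (-1 : F) • LinearMap.id :=
        LinearMap.ext fun a => Subtype.ext (h1 a a.2)
      rw [h3, LinearMap.det_smul, LinearMap.det_id, mul_one, hdW, (even_two_mul k).neg_one_pow]
    · push Not at h
      refine det_eq_one_of_isometry (polarBilin (Q.comp W.subtype)) hQW _ (fun a b => polar_oGroup s (a : V) b)
        fun w hw => Subtype.ext ?_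
      by_contra hne
      exact h w w.2 hne (congrArg Subtype.val hw)
  have hc1 : c = 1 := by
    refine (mul_self_eq_one_iff.1 hc2).resolve_right fun hcm => ?_
    have hdet : (detO Q s : F) = 1 := by
      rw [Abelianization.commutator_subset_ker (detO Q) (Subgroup.pow_mem _ hg p), Units.val_one]
    let e := Submodule.prodEquivOfIsCompl W X hcompl
    have h5 : LinearMap.det s.1.toLinearMap = LinearMap.det ((s.1.toLinearMap.restrict hsW).prodMap (c • LinearMap.id : X →ₗ[F] X)) := by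
      rw [← LinearMap.det_conj ((s.1.toLinearMap.restrict hsW).prodMap (c • LinearMap.id : X →ₗ[F] X)) e]
      congr 1
      refine LinearMap.ext fun v => ?_
      obtain ⟨y, rfl⟩ := e.surjective v
      simp only [LinearMap.coe_comp, LinearEquiv.coe_coe, Function.comp_apply, LinearEquiv.symm_apply_apply]
      rw [Submodule.coe_prodEquivOfIsCompl', Submodule.coe_prodEquivOfIsCompl', map_add, hcX _ y.2.2]
      rfl
    rw [detO_val, h5, LinearMap.det_prodMap, hdetW, one_mul, LinearMap.det_smul, LinearMap.det_id, mul_one, hdX, hcm] at hdet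
    exact h2 (by linear_combination -hdet)
  have hXfix : ∀ x ∈ X, s.1 x = x := fun x hx => by rw [hcX x hx, hc1, one_smul]
  have hsreg : ∀ w ∈ W, w ≠ 0 → ∀ i : ℕ, (s ^ i).1 w = w → m ∣ i := by
    intro w hw hne i hi
    rw [← hso]
    refine orderOf_dvd_of_pow_eq_one (Subtype.ext (LinearEquiv.ext fun v => ?_))
    obtain ⟨a, ha, b, hb, rfl⟩ := hdecomp v
    rw [map_add, pow_fix (hXfix b hb), hall (s ^ i) (hst.pow_left i) 1 ⟨w, hw, hne, by rw [one_smul, hi]⟩ a ha, one_smul]
    rfl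
  have hqc : Nat.card F = q := Nat.card_eq_fintype_card
  have htW : ∀ w ∈ W, t.1 w ∈ W := hWT
  rcases QuadStd.classify_even hQW (m := k) hdW with ⟨φ, hφ⟩ | ⟨ζ, φ, -, hζ, hφ⟩
  · refine not_dvd_card_plus (F := F) hqc hr2 hrq hk hprim ?_
    rw [← Nat.card_congr (oGroupCongr φ fun v => (hφ v).symm).toEquiv]
    have h1 : orderOf (oRes t htW) = r := by
      refine orderOf_eq_prime (Subtype.ext (LinearEquiv.ext fun w => Subtype.ext ?_)) fun h => ?_
      · rw [oRes_pow_apply, ← hto, pow_orderOf_eq_one]; rfl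
      · obtain ⟨w, hw, hne⟩ := Submodule.exists_mem_ne_zero_of_ne_bot
          (show W ≠ ⊥ from fun h => by rw [h, finrank_bot] at hdW; omega)
        refine hne (disjoint_fix_mov hTr hr0 (mem_fixS.2 ?_) hw)
        exact congrArg (fun a : oGroup (Q.comp W.subtype) => ((a.1 ⟨w, hw⟩ : W) : V)) h
    rw [← h1]
    exact orderOf_dvd_natCard _
  · have hcount : Nat.card {w : W // Q.comp W.subtype w = 1} = q ^ (k - 1) * m := by
      have h := card_sphere_minus hqc (a := 1) (b := ζ) (c := 1) ?_ one_ne_zero h2 (k - 1)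
      rw [show k - 1 + 1 = k by omega] at h
      rw [hmdef, ← h]
      · exact Nat.card_congr (Equiv.subtypeEquiv φ.toEquiv fun w => by rw [hφ]; exact Iff.rfl)
      · exact QuadStd.plane_aniso hζ
    refine sphereSign_ne_one hcompl horth h2 (Odd.add_odd hqodd.pow odd_one) hm0 (g := s)
      (orderOf_dvd_iff_pow_eq_one.1 hso.dvd) hsW hXfix hsreg one_ne_zero hqodd.pow hcount ?_
    exact Abelianization.commutator_subset_ker (sphereSign Q 1) (Subgroup.pow_mem _ hg p)

end CfsgLib.OrderBC
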