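import Cfsg.Agent.OrderBC.Basic
import Cfsg.Agent.Elusive.Decomp

/-!
An isometry which is trivial on one summand and regular on an elliptic summand is an odd permutation
of a sphere.
-/

set_option autoImplicit false
set_option linter.style.haveILetI false

namespace CfsgLib.OrderBC

open CfsgLib.Quad CfsgLib.Forms Module QuadraticMap

variable {F V : Type*} [Field F] [AddCommGroup V] [Module F V] {Q : QuadraticForm F V}

theorem pow_map_add (g : oGroup Q) {i : ℕ} (x : V) : (g ^ (i + 1)).1 x = g.1 ((g ^ i).1 x) := by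
  rw [pow_succ']; rfl

theorem pow_inv {g : oGroup Q} {W : Submodule F V} (hW : ∀ w ∈ W, g.1 w ∈ W) (i : ℕ) :
    ∀ w ∈ W, (g ^ i).1 w ∈ W := by
  induction i with
  | zero => exact fun w hw => hw
  | succ i ih => intro w hw; rw [pow_map_add]; exact hW _ (ih w hw)

theorem pow_fix {g : oGroup Q} {x : V} (hx : g.1 x = x) (i : ℕ) : (g ^ i).1 x = x := by
  induction i with
  | zero => rfl
  | succ i ih => rw [pow_map_add, ih, hx]

variable [FiniteDimensional F V]

/-- The restriction of an isometry to an invariant subspace. -/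
noncomputable def oRes (g : oGroup Q) {W : Submodule F V} (hW : ∀ w ∈ W, g.1 w ∈ W) :
    oGroup (Q.comp W.subtype) :=
  ⟨g.1.ofSubmodules W W (CfsgLib.Elusive.map_eq_of_inv g.1.injective hW), fun w => g.2 (w : V)⟩

theorem oRes_apply (g : oGroup Q) {W : Submodule F V} (hW : ∀ w ∈ W, g.1 w ∈ W) (w : W) :
    (((oRes g hW).1 w : W) : V) = g.1 w := rfl

theorem oRes_pow_apply (g : oGroup Q) {W : Submodule F V} (hW : ∀ w ∈ W, g.1 w ∈ W) (i : ℕ) (w : W) :
    ((((oRes g hW) ^ i).1 w : W) : V) = (g ^ i).1 w := by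
  induction i with
  | zero => rfl
  | succ i ih => rw [pow_map_add, oRes_apply, ih, pow_map_add]

variable [Finite F]

theorem spherePerm_pow_apply (c : F) (g : oGroup Q) (i : ℕ) (x : {x : V // Q x = c}) :
    (((spherePerm Q c g) ^ i) x : V) = (g ^ i).1 x := by
  rw [← map_pow, spherePerm_apply]

/-- The number of non-zero vectors of given value is a multiple of the order of a regular isometry. -/
theorem dvd_sphere {m : ℕ} {g : oGroup Q} (hm : g ^ m = 1)
    (hreg : ∀ v : V, v ≠ 0 → ∀ i : ℕ, (g ^ i).1 v = v → m ∣ i) (hm1 : 1 < m) (c : F) :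
    m ∣ Nat.card {v : V // Q v = c ∧ v ≠ 0} := by
  classical
  haveI : Finite V := Module.finite_of_finite F
  haveI := Fintype.ofFinite {x : V // Q x = c}
  have h := (regular_orbits (σ := spherePerm Q c g) (m := m) (by rw [← map_pow, hm, map_one]) ?_).1
  · rw [show Nat.card {v : V // Q v = c ∧ v ≠ 0} = (spherePerm Q c g).support.card from ?_, h]
    · exact dvd_mul_left _ _
    rw [← Nat.card_eq_finsetCard]
    refine Nat.card_congr
      { toFun := fun v => ⟨⟨v.1, v.2.1⟩, Equiv.Perm.mem_support.2 fun e => ?_⟩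
        invFun := fun v => ⟨v.1.1, v.1.2, fun e => Equiv.Perm.mem_support.1 v.2 (Subtype.ext ?_)⟩
        left_inv := fun v => rfl
        right_inv := fun v => rfl }
    · have h1 := hreg v.1 v.2.2 1 (by rw [pow_one]; exact congrArg Subtype.val e)
      exact hm1.ne' (Nat.dvd_one.1 h1)
    · rw [spherePerm_apply, e, map_zero]
  · intro x hx i hi
    refine hreg x.1 (fun e => hx (Subtype.ext ?_)) i ?_
    · rw [spherePerm_apply, e, map_zero]
    · rw [← spherePerm_pow_apply, hi]

theorem even_sum_of_neg {X : Type*} [AddCommGroup X] [Fintype X] [DecidableEq X]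
    (h2 : ∀ x : X, x + x = 0 → x = 0) (f : X → ℕ) (hf : ∀ x, f (-x) = f x) :
    (∑ x, f x) % 2 = f 0 % 2 := by
  rw [← Finset.add_sum_erase _ _ (Finset.mem_univ (0 : X)), Nat.add_mod]
  suffices h : ((∑ x ∈ Finset.univ.erase (0 : X), f x : ℕ) : ZMod 2) = 0 by
    rw [(ZMod.natCast_eq_zero_iff_even.1 h).two_dvd |> Nat.mod_eq_zero_of_dvd |>.trans rfl]
    · omega
  rw [Nat.cast_sum]
  refine Finset.sum_involution (fun x _ => -x) (fun x _ => ?_) (fun x hx _ e => ?_) (fun x hx => ?_)
    (fun x _ => neg_neg x)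
  · rw [hf]; exact CharTwo.add_self_eq_zero _
  · exact (Finset.mem_erase.1 hx).1 (h2 x (by nth_rewrite 1 [← e]; exact neg_add_cancel x))
  · simpa using hx

/-- The odd permutation. -/
theorem sphereSign_ne_one [Finite V] {W X : Submodule F V} (hc : IsCompl W X)
    (horth : ∀ w ∈ W, ∀ x ∈ X, polar Q w x = 0) (h2 : (2 : F) ≠ 0) {m : ℕ} (hev : Even m) (hm0 : 0 < m) {g : oGroup Q}
    (hm : g ^ m = 1) (hW : ∀ w ∈ W, g.1 w ∈ W) (hX : ∀ x ∈ X, g.1 x = x)
    (hreg : ∀ w ∈ W, w ≠ 0 → ∀ i : ℕ, (g ^ i).1 w = w → m ∣ i) {c : F} (hc0 : c ≠ 0) {M : ℕ} (hM : Odd M)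
    (hcount : Nat.card {w : W // Q.comp W.subtype w = c} = M * m) :
    sphereSign Q c g ≠ 1 := by
  classical
  letI := Fintype.ofFinite {x : V // Q x = c}
  letI := Classical.decEq {x : V // Q x = c}
  haveI : Fintype X := Fintype.ofFinite X
  have hm1 : 1 < m := by
    rcases hev with ⟨j, rfl⟩
    omega
  let e := Submodule.prodEquivOfIsCompl W X hc
  have he : ∀ p, e p = (p.1 : V) + (p.2 : V) := fun p => Submodule.coe_prodEquivOfIsCompl' W X hc p
  have hQ : ∀ p, Q (e p) = Q (p.1 : V) + Q (p.2 : V) := fun p => by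
    rw [he, quad_add, horth _ p.1.2 _ p.2.2, add_zero]
  have hpow : ∀ (i : ℕ) p, (g ^ i).1 (e p) = e (⟨(g ^ i).1 p.1, pow_inv hW i _ p.1.2⟩, p.2) := fun i p => by
    rw [he, he, map_add, pow_fix (hX _ p.2.2)]
  have hkey : ∀ (i : ℕ) (v : V), (g ^ i).1 v = v → (e.symm v).1 = 0 ∨ m ∣ i := fun i v hv => by
    by_cases h0 : (e.symm v).1 = 0
    · exact Or.inl h0
    refine Or.inr (hreg _ (e.symm v).1.2 (fun h => h0 (Subtype.ext h)) i ?_)
    rw [← e.apply_symm_apply v, hpow] at hv
    exact congrArg Subtype.val (congrArg Prod.fst (e.injective hv))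
  have hfix : ∀ v, (e.symm v).1 = 0 → g.1 v = v := fun v h0 => by
    rw [← e.apply_symm_apply v, he, h0, map_add, hX _ (e.symm v).2.2]
    simp
  set σ := spherePerm Q c g with hσ
  obtain ⟨hcard, hsign⟩ := regular_orbits (σ := σ) (m := m) (by rw [← map_pow, hm, map_one]) fun x hx i hi =>
    (hkey i x.1 (by rw [← spherePerm_pow_apply]; exact congrArg Subtype.val hi)).resolve_left
      fun h0 => hx (Subtype.ext (hfix _ h0))
  let N : X → ℕ := fun x => Nat.card {w : W // Q.comp W.subtype w = c - Q (x : V) ∧ w ≠ 0}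
  have hmem : ∀ v : {v : V // Q v = c}, v ∈ σ.support ↔ (e.symm v.1).1 ≠ 0 := fun v => by
    rw [Equiv.Perm.mem_support]
    refine ⟨fun h h0 => h (Subtype.ext (hfix _ h0)), fun h he' => ?_⟩
    rcases hkey 1 v.1 (by rw [pow_one]; exact congrArg Subtype.val he') with h0 | h1
    · exact h h0
    · exact hm1.ne' (Nat.dvd_one.1 h1)
  have hsupp : σ.support.card = ∑ x : X, N x := by
    rw [← Nat.card_eq_finsetCard, ← Nat.card_sigma]
    refine Nat.card_congr
      { toFun := fun v => ⟨(e.symm v.1.1).2, (e.symm v.1.1).1, ?_, (hmem _).1 v.2⟩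
        invFun := fun p => ⟨⟨e (p.2.1, p.1), ?_⟩, (hmem _).2 ?_⟩
        left_inv := fun v => Subtype.ext (Subtype.ext (e.apply_symm_apply v.1.1))
        right_inv := fun p => Sigma.subtype_ext (congrArg Prod.snd (e.symm_apply_apply (p.2.1, p.1)))
          (congrArg Prod.fst (e.symm_apply_apply (p.2.1, p.1))) }
    · have h := v.1.2
      rw [← e.apply_symm_apply v.1.1, hQ] at h
      rw [QuadraticMap.comp_apply, Submodule.subtype_apply]
      linear_combination h
    · rw [hQ]
      have h := p.2.2.1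
      rw [QuadraticMap.comp_apply, Submodule.subtype_apply] at h
      linear_combination h
    · show (e.symm (e (p.2.1, p.1))).1 ≠ 0
      rw [e.symm_apply_apply]
      exact p.2.2.2
  have hdiv : ∀ x, m ∣ N x := fun x => dvd_sphere (g := oRes g hW)
    (Subtype.ext (LinearEquiv.ext fun w => Subtype.ext (by rw [oRes_pow_apply, hm]; rfl)))
    (fun w hw i hi => hreg _ w.2 (fun h => hw (Subtype.ext h)) i (by rw [← oRes_pow_apply g hW, hi])) hm1 _
  choose f hf using hdiv
  have hcnt : σ.cycleType.card = ∑ x, f x := by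
    refine Nat.eq_of_mul_eq_mul_left hm0 ?_
    rw [mul_comm, ← hcard, hsupp, Finset.mul_sum]
    exact Finset.sum_congr rfl fun x _ => hf x
  have hf0 : f 0 = M := by
    refine Nat.eq_of_mul_eq_mul_left hm0 ?_
    rw [← hf, mul_comm m M, ← hcount]
    refine Nat.card_congr (Equiv.subtypeEquivRight fun w => ?_)
    rw [ZeroMemClass.coe_zero, QuadraticMap.map_zero, sub_zero, and_iff_left_iff_imp]
    rintro h rfl
    exact hc0 (by rw [← h, QuadraticMap.map_zero])
  have hodd : Odd σ.cycleType.card := by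
    rw [Nat.odd_iff, hcnt, even_sum_of_neg (X := X) (fun x hx => ?_) f (fun x => ?_), hf0]
    · exact Nat.odd_iff.1 hM
    · have h1 : (2 : F) • x = 0 := by rw [two_smul]; exact hx
      exact (smul_eq_zero.1 h1).resolve_left h2
    · refine Nat.eq_of_mul_eq_mul_left hm0 ?_
      rw [← hf, ← hf]
      simp only [N, NegMemClass.coe_neg, QuadraticMap.map_neg]
  show Equiv.Perm.sign σ ≠ 1
  rw [hsign hev, hodd.neg_one_pow]
  decide

end CfsgLib.OrderBC
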